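import Mathlib

set_option autoImplicit false

namespace Groth.Agent.H5.GenExact

open TensorProduct

section LemmaB

variable {R : Type*} [CommRing R]
  {F G H C : Type*} [AddCommGroup F] [Module R F] [AddCommGroup G] [Module R G]
  [AddCommGroup H] [Module R H] [AddCommGroup C] [Module R C]

/-- `F → G → H → C → 0` exact with `C` flat: exactness at `G` is preserved by any tensor product. -/
theorem lTensor_exact_of_flat_coker (u : F →ₗ[R] G) (v : G →ₗ[R] H) (w : H →ₗ[R] C)
    (huv : Function.Exact u v) (hvw : Function.Exact v w) (hw : Function.Surjective w)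
    [Module.Flat R C] (A : Type*) [AddCommGroup A] [Module R A] :
    Function.Exact (u.lTensor A) (v.lTensor A) := by
  set I := LinearMap.range v with hI
  set v' : G →ₗ[R] I := v.rangeRestrict with hv'
  have hv's : Function.Surjective v' := LinearMap.surjective_rangeRestrict v
  have hιw : Function.Exact I.subtype w := by
    intro y
    rw [hvw y]
    constructor
    · rintro ⟨x, rfl⟩
      exact ⟨⟨v x, LinearMap.mem_range_self v x⟩, rfl⟩
    · rintro ⟨⟨_, ⟨x, rfl⟩⟩, rfl⟩
      exact ⟨x, rfl⟩
  have hinj : Function.Injective (I.subtype.lTensor A) :=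
    LinearMap.lTensor_injective_of_exact_of_flat w hw I.subtype I.injective_subtype hιw A
  have huv' : Function.Exact u v' := by
    intro y
    rw [← huv y]
    constructor
    · intro h
      have := congrArg Subtype.val h
      simpa [hv'] using this
    · intro h
      apply Subtype.ext
      simpa [hv'] using h
  have hex : Function.Exact (u.lTensor A) (v'.lTensor A) := lTensor_exact A huv' hv's
  have hcomp : v.lTensor A = (I.subtype.lTensor A) ∘ₗ (v'.lTensor A) := by
    rw [← LinearMap.lTensor_comp]
    congr 1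
  intro y
  rw [← hex y, hcomp, LinearMap.comp_apply]
  constructor
  · intro h
    apply hinj
    rw [h, map_zero]
  · intro h
    rw [h, map_zero]

end LemmaB

section LemmaC

variable {R : Type*} [CommRing R] (S : Submonoid R)
  {F G H F' G' H' : Type*} [AddCommGroup F] [Module R F] [AddCommGroup G] [Module R G]
  [AddCommGroup H] [Module R H] [AddCommGroup F'] [Module R F'] [AddCommGroup G'] [Module R G']
  [AddCommGroup H'] [Module R H']
  (φF : F →ₗ[R] F') (φG : G →ₗ[R] G') (φH : H →ₗ[R] H')
  [IsLocalizedModule S φF] [IsLocalizedModule S φG] [IsLocalizedModule S φH]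

/-- Exactness up to `S`-torsion gives exactness after localization. -/
theorem exact_of_torsion_exact (u : F →ₗ[R] G) (v : G →ₗ[R] H)
    (U : F' →ₗ[R] G') (V : G' →ₗ[R] H')
    (hU : ∀ x, U (φF x) = φG (u x)) (hV : ∀ y, V (φG y) = φH (v y))
    (h1 : ∀ x, ∃ s : S, s • v (u x) = 0)
    (h2 : ∀ y, v y = 0 → ∃ s : S, s • y ∈ LinearMap.range u) :
    Function.Exact U V := by
  have hUmk : ∀ x (s : S), U (IsLocalizedModule.mk' φF x s) = IsLocalizedModule.mk' φG (u x) s := by
    intro x s
    rw [eq_comm, IsLocalizedModule.mk'_eq_iff, Submonoid.smul_def, ← map_smul U,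
      ← Submonoid.smul_def, IsLocalizedModule.mk'_cancel', hU]
  have hVmk : ∀ y (s : S), V (IsLocalizedModule.mk' φG y s) = IsLocalizedModule.mk' φH (v y) s := by
    intro x s
    rw [eq_comm, IsLocalizedModule.mk'_eq_iff, Submonoid.smul_def, ← map_smul V,
      ← Submonoid.smul_def, IsLocalizedModule.mk'_cancel', hV]
  intro y'
  obtain ⟨⟨y, s⟩, rfl⟩ := IsLocalizedModule.mk'_surjective S φG y'
  simp only [Function.uncurry_apply_pair]
  rw [hVmk, IsLocalizedModule.mk'_eq_zero']
  constructor
  · rintro ⟨t, ht⟩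
    have hvt : v (t • y) = 0 := by rw [Submonoid.smul_def, map_smul, ← Submonoid.smul_def, ht]
    obtain ⟨t', x, hx⟩ := h2 _ hvt
    refine ⟨IsLocalizedModule.mk' φF x (t' * t * s), ?_⟩
    rw [hUmk, hx, mul_assoc, IsLocalizedModule.mk'_cancel_left, IsLocalizedModule.mk'_cancel_left]
  · rintro ⟨x', hx'⟩
    obtain ⟨⟨x, t⟩, rfl⟩ := IsLocalizedModule.mk'_surjective S φF x'
    simp only [Function.uncurry_apply_pair] at hx'
    rw [hUmk, IsLocalizedModule.mk'_eq_mk'_iff] at hx'
    obtain ⟨r, hr⟩ := hx'
    obtain ⟨r', hr'⟩ := h1 x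
    refine ⟨r' * r * t, ?_⟩
    have : (r' * r * t) • v y = r' • v (r • t • y) := by
      simp only [Submonoid.smul_def, Submonoid.coe_mul, map_smul, mul_smul]
    rw [this, hr, Submonoid.smul_def r, Submonoid.smul_def s, map_smul, map_smul,
      smul_comm, smul_comm (r' : S), hr', smul_zero, smul_zero]

end LemmaC

end Groth.Agent.H5.GenExact
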