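import Mathlib
import Groth.Agent.Lib.Helper5.GenExact.A

set_option autoImplicit false

namespace Groth.Agent.H5.GenExact

open TensorProduct

universe u

section LemmaA

variable {R : Type*} [CommRing R] (f : R)
  {F G H : Type*} [AddCommGroup F] [Module R F] [AddCommGroup G] [Module R G]
  [AddCommGroup H] [Module R H]

/-- After inverting `f`, a sequence exact up to `f`-torsion becomes exact. -/
theorem exact_lTensor_away (u : F →ₗ[R] G) (v : G →ₗ[R] H)
    (h1 : ∀ x, ∃ j : ℕ, f ^ j • v (u x) = 0)
    (h2 : ∀ y, v y = 0 → ∃ j : ℕ, f ^ j • y ∈ LinearMap.range u) :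
    Function.Exact (u.lTensor (Localization.Away f)) (v.lTensor (Localization.Away f)) := by
  refine exact_of_torsion_exact (Submonoid.powers f)
    (TensorProduct.mk R (Localization.Away f) F 1) (TensorProduct.mk R (Localization.Away f) G 1)
    (TensorProduct.mk R (Localization.Away f) H 1) u v _ _ ?_ ?_ ?_ ?_
  · intro x; simp
  · intro x; simp
  · intro x
    obtain ⟨j, hj⟩ := h1 x
    exact ⟨⟨f ^ j, j, rfl⟩, hj⟩
  · intro y hy
    obtain ⟨j, hj⟩ := h2 y hy
    exact ⟨⟨f ^ j, j, rfl⟩, hj⟩

theorem exact_baseChange_of_isUnit {C : Type*} [AddCommGroup C] [Module R C]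
    (u : F →ₗ[R] G) (v : G →ₗ[R] H) (w : H →ₗ[R] C)
    (hw : Function.Surjective w) (hvw : Function.Exact v w)
    (h1 : ∀ x, ∃ j : ℕ, f ^ j • v (u x) = 0)
    (h2 : ∀ y, v y = 0 → ∃ j : ℕ, f ^ j • y ∈ LinearMap.range u)
    (h3 : Module.Flat (Localization.Away f) (Localization.Away f ⊗[R] C))
    (k : Type*) [CommRing k] [Algebra R k] (hf : IsUnit (algebraMap R k f)) :
    Function.Exact (u.baseChange k) (v.baseChange k) := by
  let R' := Localization.Away f
  letI : Algebra R' k := (IsLocalization.Away.lift f hf).toAlgebra
  haveI : IsScalarTower R R' k := IsScalarTower.of_algebraMap_eq (fun r => by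
    change _ = (IsLocalization.Away.lift f hf) (algebraMap R R' r)
    rw [IsLocalization.Away.lift_eq])
  have huv' : Function.Exact (u.baseChange R') (v.baseChange R') := by
    rw [LinearMap.baseChange_eq_ltensor, LinearMap.baseChange_eq_ltensor]
    exact exact_lTensor_away f u v h1 h2
  have hvw' : Function.Exact (v.baseChange R') (w.baseChange R') := by
    rw [LinearMap.baseChange_eq_ltensor, LinearMap.baseChange_eq_ltensor]
    exact lTensor_exact R' hvw hw
  have hw' : Function.Surjective (w.baseChange R') := by
    rw [LinearMap.baseChange_eq_ltensor]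
    exact LinearMap.lTensor_surjective R' hw
  have key := lTensor_exact_of_flat_coker (u.baseChange R') (v.baseChange R') (w.baseChange R')
    huv' hvw' hw' k
  -- transfer along cancelBaseChange
  let eF := AlgebraTensorModule.cancelBaseChange R R' k k F
  let eG := AlgebraTensorModule.cancelBaseChange R R' k k G
  let eH := AlgebraTensorModule.cancelBaseChange R R' k k H
  have sqU : ∀ z, eG (((u.baseChange R').lTensor k) z) = (u.baseChange k) (eF z) := by
    intro z
    induction z using TensorProduct.induction_on with
    | zero => simp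
    | add a b ha hb => simp only [map_add, ha, hb]
    | tmul a ξ =>
      induction ξ using TensorProduct.induction_on with
      | zero => simp
      | add a' b' ha hb =>
        simp only [tmul_add, map_add] at ha hb ⊢
        rw [ha, hb]
      | tmul b x => simp [eF, eG]
  have sqV : ∀ z, eH (((v.baseChange R').lTensor k) z) = (v.baseChange k) (eG z) := by
    intro z
    induction z using TensorProduct.induction_on with
    | zero => simp
    | add a b ha hb => simp only [map_add, ha, hb]
    | tmul a ξ =>
      induction ξ using TensorProduct.induction_on with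
      | zero => simp
      | add a' b' ha hb =>
        simp only [tmul_add, map_add] at ha hb ⊢
        rw [ha, hb]
      | tmul b x => simp [eG, eH]
  intro y
  obtain ⟨y', rfl⟩ := eG.surjective y
  rw [← sqV, LinearEquiv.map_eq_zero_iff, key y']
  constructor
  · rintro ⟨x', rfl⟩
    exact ⟨eF x', (sqU x').symm⟩
  · rintro ⟨x, hx⟩
    obtain ⟨x', rfl⟩ := eF.surjective x
    refine ⟨x', eG.injective ?_⟩
    rw [sqU, hx]

end LemmaA

end Groth.Agent.H5.GenExact
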