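import Mathlib
import Groth.Agent.Lib.Helper1.GenFreeLoc
import Groth.Agent.Lib.Helper5.GenExact.B

set_option autoImplicit false

namespace Groth.Agent.H5.GenExact

open TensorProduct Groth.Agent.H1.GenFree

universe u

section FFGker

variable {S : Type u} [CommRing S] {G I : Type u} [AddCommGroup G] [Module S G]
  [AddCommGroup I] [Module S I]

/-- The kernel of a surjection from a finite module onto a module which is finitely presented up to
`s`-torsion is finitely generated up to `s`-torsion. -/
theorem ffg_ker_of_fpAt [Module.Finite S G] (p : G →ₗ[S] I) (hp : Function.Surjective p) {s : S}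
    (h : FPAt S I s) : FFG s (LinearMap.ker p) := by
  classical
  obtain ⟨P, _, _, _, _, π, hπ, K', hK'fg, hK'le, hK'⟩ := h
  obtain ⟨l, hl⟩ := Module.projective_lifting_property p π hp
  have hl' : ∀ x, p (l x) = π x := fun x => LinearMap.congr_fun hl x
  obtain ⟨T, hT⟩ := (Module.Finite.fg_top : (⊤ : Submodule S G).FG)
  -- choose preimages
  have hch : ∀ y : G, ∃ q : P, π q = p y := fun y => hπ (p y)
  choose q hq using hch
  let z : G → G := fun y => y - l (q y)
  have hz : ∀ y, p (z y) = 0 := fun y => by simp [z, hl', hq]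
  refine ⟨Submodule.span S (z '' (T : Set G)) ⊔ K'.map l, ?_, ?_, ?_⟩
  · exact Submodule.FG.sup (Submodule.fg_span (T.finite_toSet.image z)) (hK'fg.map l)
  · rw [sup_le_iff]
    constructor
    · rw [Submodule.span_le]
      rintro _ ⟨y, _, rfl⟩
      exact hz y
    · rintro _ ⟨x, hx, rfl⟩
      have : π x = 0 := hK'le hx
      change p (l x) = 0
      rw [hl', this]
  · -- every element of the kernel
    -- first: every y can be written as (element of span z T) + l (q')
    have hdecomp : ∀ y : G, ∃ a ∈ Submodule.span S (z '' (T : Set G)), ∃ q' : P, y = a + l q' := by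
      intro y
      have hy : y ∈ Submodule.span S (T : Set G) := by rw [hT]; trivial
      induction hy using Submodule.span_induction with
      | mem x hx =>
        exact ⟨z x, Submodule.subset_span ⟨x, hx, rfl⟩, q x, by simp [z]⟩
      | zero => exact ⟨0, Submodule.zero_mem _, 0, by simp⟩
      | add x y _ _ hx hy =>
        obtain ⟨a, ha, qa, rfl⟩ := hx
        obtain ⟨b, hb, qb, rfl⟩ := hy
        exact ⟨a + b, Submodule.add_mem _ ha hb, qa + qb, by rw [map_add]; abel⟩
      | smul c x _ hx =>
        obtain ⟨a, ha, qa, rfl⟩ := hx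
        exact ⟨c • a, Submodule.smul_mem _ c ha, c • qa, by rw [map_smul, smul_add]⟩
    intro y hy
    obtain ⟨a, ha, q', rfl⟩ := hdecomp y
    have hpa : p a = 0 := by
      have : Submodule.span S (z '' (T : Set G)) ≤ LinearMap.ker p := by
        rw [Submodule.span_le]
        rintro _ ⟨y, _, rfl⟩
        exact hz y
      exact this ha
    have hq' : π q' = 0 := by
      have := hy
      rw [LinearMap.mem_ker, map_add, hpa, zero_add, hl'] at this
      exact this
    obtain ⟨j, hj⟩ := hK' q' hq'
    refine ⟨j, ?_⟩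
    rw [smul_add]
    refine Submodule.add_mem _ (Submodule.mem_sup_left (Submodule.smul_mem _ _ ha))
      (Submodule.mem_sup_right ⟨s ^ j • q', hj, by rw [map_smul]⟩)

end FFGker

section Tors

variable {R : Type u} [CommRing R] [IsDomain R] {M : Type u} [AddCommGroup M] [Module R M]

theorem one_tmul_eq_zero_iff (m : M) :
    (1 : FractionRing R) ⊗ₜ[R] m = 0 ↔ ∃ r : R, r ≠ 0 ∧ r • m = 0 := by
  have := IsLocalizedModule.eq_zero_iff (nonZeroDivisors R)
    (TensorProduct.mk R (FractionRing R) M 1) (m := m)
  rw [TensorProduct.mk_apply] at this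
  rw [this]
  constructor
  · rintro ⟨s, hs⟩
    exact ⟨s, nonZeroDivisors.ne_zero s.2, hs⟩
  · rintro ⟨r, hr, h⟩
    exact ⟨⟨r, mem_nonZeroDivisors_of_ne_zero hr⟩, h⟩

theorem exists_smul_eq_one_tmul (ξ : FractionRing R ⊗[R] M) :
    ∃ (r : R) (m : M), r ≠ 0 ∧ r • ξ = (1 : FractionRing R) ⊗ₜ[R] m := by
  obtain ⟨⟨m, s⟩, hs⟩ := IsLocalizedModule.surj (nonZeroDivisors R)
    (TensorProduct.mk R (FractionRing R) M 1) ξ
  exact ⟨s, m, nonZeroDivisors.ne_zero s.2, hs⟩

end Tors

end Groth.Agent.H5.GenExact
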