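import Mathlib
import Groth.Agent.Lib.Helper5.GenExact.C

set_option autoImplicit false

namespace Groth.Agent.H5.GenExact

open TensorProduct Groth.Agent.H1.GenFree

universe u

section Main

variable {R B : Type u} [CommRing R] [IsDomain R] [CommRing B] [Algebra R B]
  [Algebra.FiniteType R B]
  {F G H : Type u} [AddCommGroup F] [Module B F] [Module R F] [IsScalarTower R B F]
  [Module.Finite B F]
  [AddCommGroup G] [Module B G] [Module R G] [IsScalarTower R B G] [Module.Finite B G]
  [AddCommGroup H] [Module B H] [Module R H] [IsScalarTower R B H] [Module.Finite B H]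

omit [Algebra.FiniteType R B] [Module.Finite B F] [Module.Finite B G] [Module.Finite B H] in
/-- Generic exactness kills `v ∘ u` up to torsion, elementwise. -/
theorem exists_smul_comp_eq_zero (u : F →ₗ[B] G) (v : G →ₗ[B] H)
    (hgen : Function.Exact ((u.restrictScalars R).baseChange (FractionRing R))
      ((v.restrictScalars R).baseChange (FractionRing R))) (x : F) :
    ∃ r : R, r ≠ 0 ∧ r • v (u x) = 0 := by
  rw [← one_tmul_eq_zero_iff]
  have := hgen.apply_apply_eq_zero ((1 : FractionRing R) ⊗ₜ[R] x)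
  simpa using this

omit [Algebra.FiniteType R B] [Module.Finite B F] [Module.Finite B G] [Module.Finite B H] in
/-- Generic exactness: kernel elements are in the range up to torsion, elementwise. -/
theorem exists_smul_mem_range (u : F →ₗ[B] G) (v : G →ₗ[B] H)
    (hgen : Function.Exact ((u.restrictScalars R).baseChange (FractionRing R))
      ((v.restrictScalars R).baseChange (FractionRing R))) (y : G) (hy : v y = 0) :
    ∃ r : R, r ≠ 0 ∧ r • y ∈ LinearMap.range u := by
  have h0 : ((v.restrictScalars R).baseChange (FractionRing R)) ((1 : FractionRing R) ⊗ₜ[R] y) = 0 := by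
    simp [hy]
  obtain ⟨ξ, hξ⟩ := (hgen _).mp h0
  obtain ⟨s, x, hs, hsx⟩ := exists_smul_eq_one_tmul ξ
  have h1 : (1 : FractionRing R) ⊗ₜ[R] (s • y - u x) = 0 := by
    rw [tmul_sub, tmul_smul, ← hξ, ← LinearMap.map_smul_of_tower, hsx]
    simp
  obtain ⟨r, hr, hr0⟩ := (one_tmul_eq_zero_iff _).mp h1
  refine ⟨r * s, mul_ne_zero hr hs, r • x, ?_⟩
  rw [smul_sub, sub_eq_zero] at hr0
  rw [mul_smul, hr0, ← algebraMap_smul B r x, map_smul, algebraMap_smul]

omit [Algebra.FiniteType R B] [Module.Finite B G] [Module.Finite B H] [IsDomain R] in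
/-- A torsion statement valid on a generating set is valid everywhere, uniformly. -/
theorem exists_uniform_smul (N : Submodule B G) (P : Submodule B G)
    (r : G → R) (hr : ∀ y ∈ N, r y • y ∈ P) (T : Finset G) (hT : (T : Set G) ⊆ N) :
    ∀ y ∈ Submodule.span B (T : Set G), (∏ t ∈ T, r t) • y ∈ P := by
  classical
  intro y hy
  induction hy using Submodule.span_induction with
  | mem x hx =>
    rw [← Finset.mul_prod_erase T r hx, mul_comm, mul_smul, ← algebraMap_smul B (∏ t ∈ T.erase x, r t)]
    exact P.smul_mem _ (hr x (hT hx))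
  | zero => rw [smul_zero]; exact P.zero_mem
  | add x y _ _ hx hy => rw [smul_add]; exact P.add_mem hx hy
  | smul c x _ hx => rw [smul_comm]; exact P.smul_mem c hx

/-- **Generic exactness of fibres** (EGA IV 9.4.2-type statement), algebra form. -/
theorem main (u : F →ₗ[B] G) (v : G →ₗ[B] H)
    (hgen : Function.Exact ((u.restrictScalars R).baseChange (FractionRing R))
      ((v.restrictScalars R).baseChange (FractionRing R))) :
    ∃ f : R, f ≠ 0 ∧ ∀ (k : Type u) [CommRing k] [Algebra R k], IsUnit (algebraMap R k f) →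
      Function.Exact ((u.restrictScalars R).baseChange k) ((v.restrictScalars R).baseChange k) := by
  classical
  -- Step 1: kill `v ∘ u`
  choose r1 hr1 using exists_smul_comp_eq_zero (R := R) u v hgen
  obtain ⟨TF, hTF⟩ := (Module.Finite.fg_top : (⊤ : Submodule B F).FG)
  set g1 : R := ∏ t ∈ TF, r1 t with hg1def
  have hg1 : g1 ≠ 0 := Finset.prod_ne_zero_iff.mpr (fun t _ => (hr1 t).1)
  have h1 : ∀ x, g1 • v (u x) = 0 := by
    intro x
    have hx : x ∈ Submodule.span B (TF : Set F) := by rw [hTF]; trivial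
    induction hx using Submodule.span_induction with
    | mem x hx =>
      rw [hg1def, ← Finset.mul_prod_erase TF r1 hx, mul_comm, mul_smul, (hr1 x).2, smul_zero]
    | zero => simp
    | add x y _ _ hx hy => rw [map_add, map_add, smul_add, hx, hy, add_zero]
    | smul c x _ hx => rw [map_smul, map_smul, smul_comm, hx, smul_zero]
  -- Step 2: the image of `v` is finitely presented up to torsion
  set I : Submodule B H := LinearMap.range v with hI
  obtain ⟨f1, hf1, good1⟩ := exists_good (R := R) (S := B) (M := I) g1 hg1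
  have hffg := ffg_ker_of_fpAt v.rangeRestrict (LinearMap.surjective_rangeRestrict v) good1.fpM
  rw [LinearMap.ker_rangeRestrict] at hffg
  obtain ⟨K', ⟨T, hT⟩, hK'le, hK'⟩ := hffg
  -- Step 3: kernel elements are in the range up to torsion
  have hex3 : ∀ y : G, ∃ r : R, r ≠ 0 ∧ (y ∈ LinearMap.ker v → r • y ∈ LinearMap.range u) := by
    intro y
    by_cases hy : v y = 0
    · obtain ⟨r, hr, h⟩ := exists_smul_mem_range (R := R) u v hgen y hy
      exact ⟨r, hr, fun _ => h⟩
    · exact ⟨1, one_ne_zero, fun h => absurd h hy⟩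
  choose r3 hr3 using hex3
  set g3 : R := ∏ t ∈ T, r3 t with hg3def
  have hg3 : g3 ≠ 0 := Finset.prod_ne_zero_iff.mpr (fun t _ => (hr3 t).1)
  have hTsub : (T : Set G) ⊆ LinearMap.ker v := by
    intro t ht
    apply hK'le
    rw [← hT]
    exact Submodule.subset_span ht
  have h3 : ∀ y ∈ K', g3 • y ∈ LinearMap.range u := by
    intro y hy
    rw [← hT] at hy
    exact exists_uniform_smul (LinearMap.ker v) (LinearMap.range u) r3 (fun y hy => (hr3 y).2 hy)
      T hTsub y hy
  -- Step 4: the cokernel of `v` is generically free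
  have hg13 : g1 * f1 * g3 ≠ 0 := mul_ne_zero hf1 hg3
  obtain ⟨f2, hf2, good2⟩ := exists_good (R := R) (S := B) (M := H ⧸ I) (g1 * f1 * g3) hg13
  refine ⟨g1 * f1 * g3 * f2, hf2, ?_⟩
  intro k _ _ hk
  have hfree := good2.free_tensor
  refine exact_baseChange_of_isUnit (g1 * f1 * g3 * f2) (u.restrictScalars R) (v.restrictScalars R)
    (I.mkQ.restrictScalars R) (Submodule.mkQ_surjective I) ?_ ?_ ?_ inferInstance k hk
  · intro y
    change I.mkQ y = 0 ↔ _
    rw [Submodule.mkQ_apply, Submodule.Quotient.mk_eq_zero]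
    rfl
  · intro x
    refine ⟨1, ?_⟩
    have : g1 * f1 * g3 * f2 = (f1 * g3 * f2) * g1 := by ring
    rw [pow_one, this, mul_smul]
    change _ • g1 • v (u x) = 0
    rw [h1, smul_zero]
  · intro y hy
    have hy' : y ∈ LinearMap.ker v := hy
    obtain ⟨j, hj⟩ := hK' y hy'
    refine ⟨j + 1, ?_⟩
    have e : (g1 * f1 * g3 * f2) ^ (j + 1) = (g1 * f1) * g3 ^ j * f2 ^ (j + 1) * (g3 * (g1 * f1) ^ j) := by
      ring
    have hmem : g3 • (g1 * f1) ^ j • y ∈ LinearMap.range u := by
      have := h3 _ hj
      rwa [← map_pow, algebraMap_smul] at this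
    obtain ⟨x, hx⟩ := hmem
    set c : R := (g1 * f1) * g3 ^ j * f2 ^ (j + 1) with hc
    refine ⟨c • x, ?_⟩
    rw [e, mul_smul c, mul_smul g3, ← hx, map_smul]
    rfl

end Main

end Groth.Agent.H5.GenExact
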